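import Groth.Agent.Torsor.Descent
import Groth.Agent.FinSect.SmoothTriv
import Groth.Agent.FpqcDescent.Props
import Mathlib.RingTheory.Smooth.AdicCompletion
import Mathlib.RingTheory.AdicCompletion.Completeness
import Mathlib.RingTheory.PowerSeries.Inverse

/-!
Torsors under smooth affine groups over power series rings have sections after an etale extension of the coefficients.
-/

set_option autoImplicit false
set_option backward.isDefEq.respectTransparency false
set_option backward.isDefEq.respectTransparency.types false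
set_option linter.style.haveILetI false

universe u

open CategoryTheory CategoryTheory.Limits AlgebraicGeometry PowerSeries
open scoped TensorProduct

namespace Groth.Agent.PSTorsor

theorem mem_span_X_iff {E : Type u} [CommRing E] (f : E⟦X⟧) :
    f ∈ RingHom.ker (constantCoeff (R := E)) ↔ f ∈ Ideal.span {(X : E⟦X⟧)} := by
  rw [RingHom.mem_ker, Ideal.mem_span_singleton, X_dvd_iff]

/-- A smooth surjective affine scheme over `R⟦X⟧` acquires a section over `E⟦X⟧`, `E` etale faithfully flat. -/
theorem exists_section (R : Type u) [CommRing R] {A : CommRingCat.{u}} (ψ : CommRingCat.of R⟦X⟧ ⟶ A)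
    [Smooth (Spec.map ψ)] [Surjective (Spec.map ψ)] :
    ∃ (E : Type u) (_ : CommRing E) (_ : Algebra R E), Algebra.Etale R E ∧ Module.FaithfullyFlat R E ∧
      ∃ g : A →+* E⟦X⟧, g.comp ψ.hom = PowerSeries.map (algebraMap R E) := by
  let c0 : CommRingCat.of R⟦X⟧ ⟶ CommRingCat.of R := CommRingCat.ofHom constantCoeff
  haveI : IsAffine (pullback (Spec.map ψ) (Spec.map c0)) := inferInstance
  let W := pullback (Spec.map ψ) (Spec.map c0)
  let C := Γ(W, ⊤)
  let c : CommRingCat.of R ⟶ C := Spec.preimage (W.isoSpec.inv ≫ pullback.snd _ _)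
  haveI : Smooth (pullback.snd (Spec.map ψ) (Spec.map c0)) :=
    MorphismProperty.pullback_snd (P := @Smooth) _ _ ‹_›
  haveI : Surjective (pullback.snd (Spec.map ψ) (Spec.map c0)) :=
    MorphismProperty.pullback_snd (P := @Surjective) _ _ ‹_›
  haveI hs : Smooth (Spec.map c) := by rw [Spec.map_preimage]; infer_instance
  haveI hsur : Surjective (Spec.map c) := by rw [Spec.map_preimage]; infer_instance
  letI : Algebra R C := c.hom.toAlgebra
  have hc : c.hom.Smooth := (HasRingHomProperty.Spec_iff (P := @Smooth)).1 hs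
  haveI : Algebra.Smooth R C := hc
  haveI : Algebra.FinitePresentation R C := Algebra.Smooth.finitePresentation
  haveI : Smooth (Spec.map (CommRingCat.ofHom (algebraMap R C))) := hs
  haveI : Surjective (Spec.map (CommRingCat.ofHom (algebraMap R C))) := hsur
  obtain ⟨E, _, _, het, hff, φ, hφ⟩ := FinSect.SmoothTriv.exists_hom_cover R R C
  refine ⟨E, inferInstance, inferInstance, het, hff, ?_⟩
  let φ' : C →+* E := ((Algebra.TensorProduct.rid R R E).toRingHom).comp φ
  have hφ' : φ'.comp c.hom = algebraMap R E := by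
    change ((Algebra.TensorProduct.rid R R E).toRingHom.comp φ).comp (algebraMap R C) = _
    rw [RingHom.comp_assoc, hφ]
    ext r
    simp [Algebra.algebraMap_eq_smul_one]
  let t : A ⟶ C := Spec.preimage (W.isoSpec.inv ≫ pullback.fst _ _)
  have ht : ψ ≫ t = c0 ≫ c := Spec.map_injective (by
    simp only [Spec.map_comp, t, c, Spec.map_preimage, Category.assoc, pullback.condition])
  let f0 : A →+* E := φ'.comp t.hom
  have hf0 : f0.comp ψ.hom = (algebraMap R E).comp constantCoeff := by
    rw [← hφ']
    exact congrArg φ'.comp (congrArg CommRingCat.Hom.hom ht)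
  letI : Algebra R⟦X⟧ A := ψ.hom.toAlgebra
  have hψ : ψ.hom.Smooth := (HasRingHomProperty.Spec_iff (P := @Smooth)).1 ‹Smooth (Spec.map ψ)›
  haveI : Algebra.Smooth R⟦X⟧ A := hψ
  haveI : Algebra.FormallySmooth R⟦X⟧ A := Algebra.Smooth.formallySmooth
  letI : Algebra R⟦X⟧ E⟦X⟧ := (PowerSeries.map (algebraMap R E)).toAlgebra
  let I : Ideal E⟦X⟧ := Ideal.span {X}
  have hI : RingHom.ker (constantCoeff (R := E)) = I := Ideal.ext mem_span_X_iff
  let e : E⟦X⟧ ⧸ I ≃+* E :=
    (Ideal.quotEquivOfEq hI.symm).trans (RingHom.quotientKerEquivOfSurjective constantCoeff_surj)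
  have he : ∀ x, e (Ideal.Quotient.mk I x) = constantCoeff x := fun x => rfl
  let f : A →ₐ[R⟦X⟧] E⟦X⟧ ⧸ I :=
    { e.symm.toRingHom.comp f0 with
      commutes' := fun r => by
        change e.symm (f0 (ψ.hom r)) = Ideal.Quotient.mk I (PowerSeries.map (algebraMap R E) r)
        rw [RingEquiv.symm_apply_eq, he, show f0 (ψ.hom r) = _ from RingHom.congr_fun hf0 r]
        rw [RingHom.comp_apply, ← PowerSeries.coeff_zero_eq_constantCoeff_apply, ← PowerSeries.coeff_zero_eq_constantCoeff_apply, PowerSeries.coeff_map] }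
  obtain ⟨g, -⟩ := Algebra.FormallySmooth.exists_mkₐ_comp_eq_of_isAdicComplete f
  exact ⟨g.toRingHom, RingHom.ext fun r => g.commutes r⟩

theorem main (R : Type u) [CommRing R] (G : Over (Spec (CommRingCat.of R⟦X⟧))) [GrpObj G] [IsAffine G.left]
    [Smooth G.hom] (P : Over (Spec (CommRingCat.of R⟦X⟧))) (a : AlgGrp.Action G P)
    (hP : NonAbH1.IsTorsorFor Scheme.fpqcPrecoverage a) :
    ∃ (R' : Type u) (_ : CommRing R') (_ : Algebra R R'), Algebra.Etale R R' ∧ Module.FaithfullyFlat R R' ∧
      NonAbH1.HasSectionOver P (Spec.map (CommRingCat.ofHom (PowerSeries.map (algebraMap R R')))) := by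
  haveI : IsAffineHom P.hom :=
    Torsor.of_isTorsorFor hP (@IsAffineHom : MorphismProperty Scheme.{u}) inferInstance
  haveI : Smooth P.hom := Torsor.of_isTorsorFor hP (@Smooth : MorphismProperty Scheme.{u}) inferInstance
  haveI : Surjective P.hom := Torsor.surjective_of_isTorsorFor hP
  haveI : IsAffine P.left := isAffine_of_isAffineHom P.hom
  let ψ : CommRingCat.of R⟦X⟧ ⟶ Γ(P.left, ⊤) := Spec.preimage (P.left.isoSpec.inv ≫ P.hom)
  haveI : Smooth (Spec.map ψ) := by rw [Spec.map_preimage]; infer_instance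
  haveI : Surjective (Spec.map ψ) := by rw [Spec.map_preimage]; infer_instance
  obtain ⟨E, _, _, het, hff, g, hg⟩ := exists_section R ψ
  refine ⟨E, inferInstance, inferInstance, het, hff, Spec.map (CommRingCat.ofHom g) ≫ P.left.isoSpec.inv, ?_⟩
  rw [Category.assoc, ← Spec.map_preimage (P.left.isoSpec.inv ≫ P.hom), ← Spec.map_comp]
  exact congrArg Spec.map (CommRingCat.hom_ext hg)

end Groth.Agent.PSTorsor
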